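import Cfsg.Agent.Lib.Helper35.M11POrd.U0.Check
import Cfsg.Agent.Lib.Helper35.M11POrd.U1.Check
import Cfsg.Agent.Lib.Helper35.M11POrd.Y0.Check
import Cfsg.Agent.Lib.Helper35.M11POrd.X0.Fin
import Cfsg.Agent.Lib.Helper35.Simple4

namespace Cfsg.Agent.Lib.Helper35.M11POrd

open Cfsg.Agent.Lib.Helper35 Cfsg.Spor

set_option maxRecDepth 100000

noncomputable def I : PresIface M11P := coxIface M11P.edges M11P.extra PresM11P.cc PresM11P.extraL PresM11P.R PresM11P.allGens PresM11P.hall PresM11P.hOK PresM11P.hextra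
theorem up2 : Finite (wsub I.val ([] : List (List Nat))) ∧ Nat.card (wsub I.val ([] : List (List Nat))) ≤ 1 := upper_nil I.val

theorem up1 : Finite (wsub I.val [[0, 1], [2, 0]]) ∧ Nat.card (wsub I.val [[0, 1], [2, 0]]) ≤ 11 :=
  upper_cons 11 1 11 up2 (fun hf => card_upper_step I.val I.inv I.hinv [[0, 1], [2, 0]] ([] : List (List Nat)) U1.invL U1.R U1.S 11
    (by decide +kernel) (by decide +kernel)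
    (fun b hb => I.hR _ ((by decide +kernel : ∀ b ∈ U1.R, expand [[0, 1], [2, 0]] b ∈ PresM11P.R) b hb))
    (by decide +kernel) U1.certData hf) (by decide +kernel)
theorem up0 : Finite (wsub I.val [[0], [1], [2]]) ∧ Nat.card (wsub I.val [[0], [1], [2]]) ≤ 7920 :=
  upper_cons 720 11 7920 up1 (fun hf => card_upper_step I.val I.inv I.hinv [[0], [1], [2]] [[0, 1], [2, 0]] PresM11P.cc.invL PresM11P.R U0.S 720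
    (by decide +kernel) (by decide +kernel)
    (fun b hb => I.hR _ ((by decide +kernel : ∀ b ∈ PresM11P.R, expand [[0], [1], [2]] b ∈ PresM11P.R) b hb))
    (by decide +kernel) U0.certData hf) (by decide +kernel)
noncomputable abbrev pv2 := M11P11.permData.pv
theorem lo4 : 1 ≤ Nat.card (wsub pv2 ([] : List (List Nat))) := lower_nil pv2
theorem lo3 : 8 ≤ Nat.card (wsub pv2 [[1, 0, 2, 0, 2, 0, 2, 0, 1, 0, 2, 0, 2, 0, 1, 0, 0, 2, 0, 1, 0, 2, 0, 2, 0, 2, 0, 0, 2, 0], [0, 1, 0, 0, 1, 0, 1, 0, 1, 0, 2, 0, 1, 0, 0, 2, 0, 1, 0, 1, 0, 2, 0, 1, 0, 1, 0, 1, 0, 2], [0, 1, 0, 1, 0, 2, 0, 2, 1, 0, 2, 0, 2, 0, 2, 0, 1, 0, 2, 0, 2, 0, 1, 0, 0, 1, 0, 0, 1, 0, 1, 0, 1, 0, 2, 0, 1, 0], [0, 2, 0, 1, 0, 2, 0, 2, 0, 2, 0, 0, 2, 0, 0, 2,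 0, 1, 0, 1, 0, 2, 0, 1, 0, 1, 0, 1, 0, 2, 1, 0, 1, 0, 2, 0, 2, 0]]) :=
  lower_cons 8 1 8 lo4 (card_lower_step pv2 [[1, 0, 2, 0, 2, 0, 2, 0, 1, 0, 2, 0, 2, 0, 1, 0, 0, 2, 0, 1, 0, 2, 0, 2, 0, 2, 0, 0, 2, 0], [0, 1, 0, 0, 1, 0, 1, 0, 1, 0, 2, 0, 1, 0, 0, 2, 0, 1, 0, 1, 0, 2, 0, 1, 0, 1, 0, 1, 0, 2], [0, 1, 0, 1, 0, 2, 0, 2, 1, 0, 2, 0, 2, 0, 2, 0, 1, 0, 2, 0, 2, 0, 1, 0, 0, 1, 0, 0, 1, 0, 1, 0, 1, 0, 2, 0, 1, 0], [0, 2, 0, 1, 0, 2, 0, 2, 0, 2, 0, 0, 2, 0, 0, 2, 0, 1, 0, 1, 0, 2, 0, 1, 0, 1, 0, 1, 0, 2, 1, 0, 1, 0, 2, 0, 2, 0]] ([] : List (List Nat)) (by decide +kernel) 10 (MonoidHom.id _) M11P11.pt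
    (fun s hs i => walk_of_hom pv2 M11P11.permData (MonoidHom.id _) (fun _ => rfl) s ((by decide +kernel : ∀ s ∈ ([[1, 0, 2, 0, 2, 0, 2, 0, 1, 0, 2, 0, 2, 0, 1, 0, 0, 2, 0, 1, 0, 2, 0, 2, 0, 2, 0, 0, 2, 0], [0, 1, 0, 0, 1, 0, 1, 0, 1, 0, 2, 0, 1, 0, 0, 2, 0, 1, 0, 1, 0, 2, 0, 1, 0, 1, 0, 1, 0, 2], [0, 1, 0, 1, 0, 2, 0, 2, 1, 0, 2, 0, 2, 0, 2, 0, 1, 0, 2, 0, 2, 0, 1, 0, 0, 1, 0, 0, 1, 0, 1, 0, 1, 0, 2, 0, 1, 0], [0, 2, 0, 1, 0, 2, 0, 2, 0, 2, 0, 0, 2, 0, 0, 2, 0, 1, 0, 1, 0, 2, 0, 1, 0, 1, 0, 1, 0, 2, 1, 0, 1, 0, 2, 0, 2, 0]] : List (List Nat)), ∀ c ∈ s, c < PresM11P.cc.C) s hs) i)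
    3 8 (by decide +kernel) X0.reach3 X0.fix3) (by decide +kernel)
theorem lo2 : 72 ≤ Nat.card (wsub pv2 [[1, 0, 1, 0, 2, 0, 2, 0], [0, 1, 0, 1, 0, 2, 0, 2], [0, 2, 0, 1, 0, 2, 0, 2, 0, 2, 0, 0, 2, 0], [0, 1, 0, 0, 1, 0, 1, 0, 1, 0, 2, 0, 1, 0], [1, 0, 2, 0, 2, 0, 2, 0, 1, 0, 2, 0, 2, 0, 1, 0], [0, 2, 0, 1, 0, 1, 0, 2, 0, 1, 0, 1, 0, 1, 0, 2]]) := by
  have h := lower_cons 9 8 72 lo3 (card_lower_step pv2 [[1, 0, 1, 0, 2, 0, 2, 0], [0, 1, 0, 1, 0, 2, 0, 2], [0, 2, 0, 1, 0, 2, 0, 2, 0, 2, 0, 0, 2, 0], [0, 1, 0, 0, 1, 0, 1, 0, 1, 0, 2, 0, 1, 0], [1, 0, 2, 0, 2, 0, 2, 0, 1, 0, 2, 0, 2, 0, 1, 0], [0, 2, 0, 1, 0, 1, 0, 2, 0, 1, 0, 1, 0, 1, 0, 2], [1, 0, 2, 0, 2, 0, 2, 0, 1, 0, 2, 0, 2, 0, 1, 0, 0, 2, 0, 1, 0, 2, 0, 2, 0, 2,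 0, 0, 2, 0], [0, 1, 0, 0, 1, 0, 1, 0, 1, 0, 2, 0, 1, 0, 0, 2, 0, 1, 0, 1, 0, 2, 0, 1, 0, 1, 0, 1, 0, 2], [0, 1, 0, 1, 0, 2, 0, 2, 1, 0, 2, 0, 2, 0, 2, 0, 1, 0, 2, 0, 2, 0, 1, 0, 0, 1, 0, 0, 1, 0, 1, 0, 1, 0, 2, 0, 1, 0], [0, 2, 0, 1, 0, 2, 0, 2, 0, 2, 0, 0, 2, 0, 0, 2, 0, 1, 0, 1, 0, 2, 0, 1, 0, 1, 0, 1, 0, 2, 1, 0, 1, 0, 2, 0, 2, 0]] [[1, 0, 2, 0, 2, 0, 2, 0, 1, 0, 2, 0, 2, 0, 1, 0, 0, 2, 0, 1, 0, 2, 0, 2, 0, 2, 0, 0, 2, 0], [0, 1, 0, 0, 1, 0, 1, 0, 1, 0, 2, 0, 1, 0, 0, 2, 0, 1, 0, 1, 0, 2, 0, 1, 0, 1, 0, 1, 0, 2], [0, 1, 0, 1, 0, 2, 0, 2, 1, 0, 2, 0, 2, 0, 2, 0, 1, 0, 2, 0, 2, 0, 1, 0, 0, 1, 0, 0, 1, 0, 1, 0, 1, 0, 2, 0, 1, 0], [0, 2, 0, 1, 0, 2, 0, 2, 0, 2, 0, 0, 2, 0, 0, 2, 0, 1, 0, 1, 0, 2, 0, 1, 0, 1, 0, 1, 0,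 2, 1, 0, 1, 0, 2, 0, 2, 0]] (by decide +kernel) 10 (MonoidHom.id _) M11P11.pt
    (fun s hs i => walk_of_hom pv2 M11P11.permData (MonoidHom.id _) (fun _ => rfl) s ((by decide +kernel : ∀ s ∈ ([[1, 0, 1, 0, 2, 0, 2, 0], [0, 1, 0, 1, 0, 2, 0, 2], [0, 2, 0, 1, 0, 2, 0, 2, 0, 2, 0, 0, 2, 0], [0, 1, 0, 0, 1, 0, 1, 0, 1, 0, 2, 0, 1, 0], [1, 0, 2, 0, 2, 0, 2, 0, 1, 0, 2, 0, 2, 0, 1, 0], [0, 2, 0, 1, 0, 1, 0, 2, 0, 1, 0, 1, 0, 1, 0, 2], [1, 0, 2, 0, 2, 0, 2, 0, 1, 0, 2, 0, 2, 0, 1, 0, 0, 2, 0, 1, 0, 2, 0, 2, 0, 2, 0, 0, 2, 0], [0, 1, 0, 0, 1, 0, 1, 0, 1, 0, 2, 0, 1, 0, 0, 2, 0, 1, 0, 1, 0, 2, 0, 1, 0, 1, 0, 1, 0, 2], [0, 1, 0, 1, 0, 2, 0, 2, 1, 0, 2, 0, 2, 0, 2, 0, 1, 0, 2, 0, 2, 0, 1, 0, 0, 1, 0, 0, 1, 0, 1, 0, 1, 0, 2, 0,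 1, 0], [0, 2, 0, 1, 0, 2, 0, 2, 0, 2, 0, 0, 2, 0, 0, 2, 0, 1, 0, 1, 0, 2, 0, 1, 0, 1, 0, 1, 0, 2, 1, 0, 1, 0, 2, 0, 2, 0]] : List (List Nat)), ∀ c ∈ s, c < PresM11P.cc.C) s hs) i)
    2 9 (by decide +kernel) X0.reach2 X0.fix2) (by decide +kernel)
  have e : wsub pv2 [[1, 0, 1, 0, 2, 0, 2, 0], [0, 1, 0, 1, 0, 2, 0, 2], [0, 2, 0, 1, 0, 2, 0, 2, 0, 2, 0, 0, 2, 0], [0, 1, 0, 0, 1, 0, 1, 0, 1, 0, 2, 0, 1, 0], [1, 0, 2, 0, 2, 0, 2, 0, 1, 0, 2, 0, 2, 0, 1, 0], [0, 2, 0, 1, 0, 1, 0, 2, 0, 1, 0, 1, 0, 1, 0, 2], [1, 0, 2, 0, 2, 0, 2, 0, 1, 0, 2, 0, 2, 0, 1, 0, 0, 2, 0, 1, 0, 2, 0, 2, 0, 2, 0, 0, 2, 0], [0, 1, 0, 0, 1, 0, 1, 0, 1, 0, 2, 0, 1, 0, 0, 2, 0, 1, 0, 1, 0, 2, 0, 1, 0, 1, 0, 1, 0, 2], [0, 1, 0, 1, 0, 2, 0, 2, 1, 0, 2,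 0, 2, 0, 2, 0, 1, 0, 2, 0, 2, 0, 1, 0, 0, 1, 0, 0, 1, 0, 1, 0, 1, 0, 2, 0, 1, 0], [0, 2, 0, 1, 0, 2, 0, 2, 0, 2, 0, 0, 2, 0, 0, 2, 0, 1, 0, 1, 0, 2, 0, 1, 0, 1, 0, 1, 0, 2, 1, 0, 1, 0, 2, 0, 2, 0]] = wsub pv2 [[1, 0, 1, 0, 2, 0, 2, 0], [0, 1, 0, 1, 0, 2, 0, 2], [0, 2, 0, 1, 0, 2, 0, 2, 0, 2, 0, 0, 2, 0], [0, 1, 0, 0, 1, 0, 1, 0, 1, 0, 2, 0, 1, 0], [1, 0, 2, 0, 2, 0, 2, 0, 1, 0, 2, 0, 2, 0, 1, 0], [0, 2, 0, 1, 0, 1, 0, 2, 0, 1, 0, 1, 0, 1, 0, 2]] := wsub_append_of_factors pv2 [[1, 0, 1, 0, 2, 0, 2, 0], [0, 1, 0, 1, 0, 2, 0, 2], [0, 2, 0, 1, 0, 2, 0, 2, 0, 2, 0, 0, 2, 0], [0, 1, 0, 0, 1, 0, 1, 0, 1, 0, 2, 0, 1, 0], [1, 0, 2, 0, 2, 0, 2, 0, 1, 0, 2, 0, 2, 0, 1, 0], [0, 2, 0, 1, 0, 1, 0, 2, 0, 1, 0, 1, 0, 1, 0, 2]] [[1,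 0, 2, 0, 2, 0, 2, 0, 1, 0, 2, 0, 2, 0, 1, 0, 0, 2, 0, 1, 0, 2, 0, 2, 0, 2, 0, 0, 2, 0], [0, 1, 0, 0, 1, 0, 1, 0, 1, 0, 2, 0, 1, 0, 0, 2, 0, 1, 0, 1, 0, 2, 0, 1, 0, 1, 0, 1, 0, 2], [0, 1, 0, 1, 0, 2, 0, 2, 1, 0, 2, 0, 2, 0, 2, 0, 1, 0, 2, 0, 2, 0, 1, 0, 0, 1, 0, 0, 1, 0, 1, 0, 1, 0, 2, 0, 1, 0], [0, 2, 0, 1, 0, 2, 0, 2, 0, 2, 0, 0, 2, 0, 0, 2, 0, 1, 0, 1, 0, 2, 0, 1, 0, 1, 0, 1, 0, 2, 1, 0, 1, 0, 2, 0, 2, 0]] [[[1, 0, 2, 0, 2, 0, 2, 0, 1, 0, 2, 0, 2, 0, 1, 0], [0, 2, 0, 1, 0, 2, 0, 2, 0, 2, 0, 0, 2, 0]], [[0, 1, 0, 0, 1, 0, 1, 0, 1, 0, 2, 0, 1, 0], [0, 2, 0, 1, 0, 1, 0, 2, 0, 1, 0, 1, 0, 1, 0, 2]], [[0, 1, 0, 1, 0, 2, 0, 2], [1, 0, 2, 0, 2, 0, 2, 0, 1, 0, 2, 0, 2, 0, 1, 0], [0, 1, 0, 0, 1, 0, 1, 0, 1, 0, 2, 0, 1, 0]],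 [[0, 2, 0, 1, 0, 2, 0, 2, 0, 2, 0, 0, 2, 0], [0, 2, 0, 1, 0, 1, 0, 2, 0, 1, 0, 1, 0, 1, 0, 2], [1, 0, 1, 0, 2, 0, 2, 0]]] (by decide +kernel) (by decide +kernel)
  rwa [e] at h
theorem lo1 : 720 ≤ Nat.card (wsub pv2 [[0, 1, 0], [0, 2, 0], [1, 0, 1, 0, 2], [1, 0, 2, 0, 2]]) := by
  have h := lower_cons 10 72 720 lo2 (card_lower_step pv2 [[0, 1, 0], [0, 2, 0], [1, 0, 1, 0, 2], [1, 0, 2, 0, 2], [1, 0, 1, 0, 2, 0, 2, 0], [0, 1, 0, 1, 0, 2, 0, 2], [0, 2, 0, 1, 0, 2, 0, 2, 0, 2, 0, 0, 2, 0], [0, 1, 0, 0, 1, 0, 1, 0, 1, 0, 2, 0, 1, 0], [1, 0, 2, 0, 2, 0, 2, 0, 1, 0, 2, 0, 2, 0, 1, 0], [0, 2, 0, 1, 0, 1, 0, 2, 0, 1, 0, 1, 0, 1, 0, 2]] [[1, 0, 1, 0, 2, 0, 2, 0], [0, 1, 0, 1, 0, 2, 0, 2], [0, 2, 0, 1, 0, 2, 0, 2, 0, 2, 0, 0, 2,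 0], [0, 1, 0, 0, 1, 0, 1, 0, 1, 0, 2, 0, 1, 0], [1, 0, 2, 0, 2, 0, 2, 0, 1, 0, 2, 0, 2, 0, 1, 0], [0, 2, 0, 1, 0, 1, 0, 2, 0, 1, 0, 1, 0, 1, 0, 2]] (by decide +kernel) 10 (MonoidHom.id _) M11P11.pt
    (fun s hs i => walk_of_hom pv2 M11P11.permData (MonoidHom.id _) (fun _ => rfl) s ((by decide +kernel : ∀ s ∈ ([[0, 1, 0], [0, 2, 0], [1, 0, 1, 0, 2], [1, 0, 2, 0, 2], [1, 0, 1, 0, 2, 0, 2, 0], [0, 1, 0, 1, 0, 2, 0, 2], [0, 2, 0, 1, 0, 2, 0, 2, 0, 2, 0, 0, 2, 0], [0, 1, 0, 0, 1, 0, 1, 0, 1, 0, 2, 0, 1, 0], [1, 0, 2, 0, 2, 0, 2, 0, 1, 0, 2, 0, 2, 0, 1, 0], [0, 2, 0, 1, 0, 1, 0, 2, 0, 1, 0, 1, 0, 1, 0, 2]] : List (List Nat)), ∀ c ∈ s, c < PresM11P.cc.C) s hs) i)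
    1 10 (by decide +kernel) X0.reach1 X0.fix1) (by decide +kernel)
  have e : wsub pv2 [[0, 1, 0], [0, 2, 0], [1, 0, 1, 0, 2], [1, 0, 2, 0, 2], [1, 0, 1, 0, 2, 0, 2, 0], [0, 1, 0, 1, 0, 2, 0, 2], [0, 2, 0, 1, 0, 2, 0, 2, 0, 2, 0, 0, 2, 0], [0, 1, 0, 0, 1, 0, 1, 0, 1, 0, 2, 0, 1, 0], [1, 0, 2, 0, 2, 0, 2, 0, 1, 0, 2, 0, 2, 0, 1, 0], [0, 2, 0, 1, 0, 1, 0, 2, 0, 1, 0, 1, 0, 1, 0, 2]] = wsub pv2 [[0, 1, 0], [0, 2, 0], [1, 0, 1, 0, 2], [1, 0, 2, 0, 2]] := wsub_append_of_factors pv2 [[0, 1, 0], [0, 2, 0], [1, 0, 1, 0, 2], [1, 0, 2, 0, 2]] [[1, 0, 1, 0, 2, 0, 2, 0], [0, 1, 0, 1, 0, 2, 0, 2], [0, 2, 0, 1, 0, 2, 0, 2, 0, 2, 0, 0, 2, 0], [0, 1, 0, 0, 1, 0, 1, 0, 1, 0, 2, 0, 1, 0], [1, 0, 2, 0, 2, 0, 2, 0, 1, 0, 2, 0, 2, 0, 1,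 0], [0, 2, 0, 1, 0, 1, 0, 2, 0, 1, 0, 1, 0, 1, 0, 2]] [[[1, 0, 1, 0, 2], [0, 2, 0]], [[0, 1, 0], [1, 0, 2, 0, 2]], [[0, 2, 0], [1, 0, 2, 0, 2], [0, 2, 0], [0, 2, 0]], [[0, 1, 0], [0, 1, 0], [1, 0, 1, 0, 2], [0, 1, 0]], [[1, 0, 2, 0, 2], [0, 2, 0], [1, 0, 2, 0, 2], [0, 1, 0]], [[0, 2, 0], [1, 0, 1, 0, 2], [0, 1, 0], [1, 0, 1, 0, 2]]] (by decide +kernel) (by decide +kernel)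
  rwa [e] at h
theorem lo0 : 7920 ≤ Nat.card (wsub pv2 [[0], [1], [2]]) := by
  have h := lower_cons 11 720 7920 lo1 (card_lower_step pv2 [[0], [1], [2], [0, 1, 0], [0, 2, 0], [1, 0, 1, 0, 2], [1, 0, 2, 0, 2]] [[0, 1, 0], [0, 2, 0], [1, 0, 1, 0, 2], [1, 0, 2, 0, 2]] (by decide +kernel) 10 (MonoidHom.id _) M11P11.pt
    (fun s hs i => walk_of_hom pv2 M11P11.permData (MonoidHom.id _) (fun _ => rfl) s ((by decide +kernel : ∀ s ∈ ([[0], [1], [2], [0, 1, 0], [0, 2, 0], [1, 0, 1, 0, 2], [1, 0, 2, 0, 2]] : List (List Nat)), ∀ c ∈ s, c < PresM11P.cc.C) s hs) i)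
    0 11 (by decide +kernel) X0.reach0 X0.fix0) (by decide +kernel)
  have e : wsub pv2 [[0], [1], [2], [0, 1, 0], [0, 2, 0], [1, 0, 1, 0, 2], [1, 0, 2, 0, 2]] = wsub pv2 [[0], [1], [2]] := wsub_append_of_letters pv2 [[0], [1], [2]] [[0, 1, 0], [0, 2, 0], [1, 0, 1, 0, 2], [1, 0, 2, 0, 2]] (by decide +kernel)
  rwa [e] at h
def cnt0 : Nat → Nat := fun k => ([1, 10] : List Nat).getD k 0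
noncomputable def prim0 : PrimData M11P11.permData 7920 where
  O := M11P11.orbData
  r := 2
  cnt := cnt0
  hcnt := by
    intro k hk
    interval_cases k
    exacts [M11P11.ocnt0, M11P11.ocnt1]
  hsum := by decide +kernel
  hnum := by decide +kernel
  p := 11
  hp := by norm_num
  yw := Y0.yw
  hyC := by decide +kernel
  hnd := by decide +kernel
  col := Y0.certData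
theorem main : IsSimpleGroup M11P ∧ Nat.card M11P = 7920 :=
  simple_of_one I M11P11.permData 7920 (by decide +kernel) up0 lo0 prim0 X0.yfix0

end Cfsg.Agent.Lib.Helper35.M11POrd
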